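import Cfsg.Agent.Lib.Hexacode.Model
import Cfsg.Agent.Lib.Monomial.Basic

/-!
# The hexacode: weights and monomial automorphisms
-/

set_option autoImplicit false

namespace CfsgLib.Hexacode

open Cfsg CfsgLib.Monomial

variable {F : Type*} [Field F] {ω : F}

/-- The embedding of the table model. -/
def phi (ω : F) : Fin 4 → F := ![0, 1, ω, ω ^ 2]

/-- The hypotheses on the field. -/
structure IsF4 (F : Type*) [Field F] (ω : F) : Prop where
  card : Nat.card F = 4
  root : ω ^ 2 + ω + 1 = 0

namespace IsF4

variable (h : IsF4 F ω)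
include h

theorem finite : Finite F := Nat.finite_of_card_ne_zero (by rw [h.card]; norm_num)

theorem two_eq_zero : (2 : F) = 0 := by
  have := h.finite
  let _ := Fintype.ofFinite F
  have h4 : ((Fintype.card F : ℕ) : F) = 0 := Nat.cast_card_eq_zero F
  rw [← Nat.card_eq_fintype_card, h.card] at h4
  have : (2 : F) * 2 = 0 := by push_cast at h4; linear_combination h4
  exact mul_self_eq_zero.1 this

theorem sq : ω ^ 2 = ω + 1 := by
  linear_combination h.root - (ω + 1) * h.two_eq_zero

theorem phi_add : ∀ a b : Fin 4, phi ω (addK a b) = phi ω a + phi ω b := by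
  have h2 := h.two_eq_zero
  have hs := h.sq
  intro a b
  fin_cases a <;> fin_cases b <;> simp [phi, addK, hs]
  all_goals first
    | ring1
    | linear_combination h2
    | linear_combination -h2
    | linear_combination (ω : F) * h2
    | linear_combination -(ω : F) * h2
    | linear_combination (ω + 1 : F) * h2
    | linear_combination -(ω + 1 : F) * h2

theorem cube : ω ^ 3 = 1 := by linear_combination (ω - 1) * h.root

theorem phi_mul : ∀ a b : Fin 4, phi ω (mulK a b) = phi ω a * phi ω b := by
  intro a b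
  fin_cases a <;> fin_cases b <;> simp [phi, mulK]
  all_goals first
    | ring1
    | linear_combination h.cube
    | linear_combination -h.cube
    | linear_combination ω * h.cube
    | linear_combination -ω * h.cube

theorem ne_zero : ω ≠ 0 := fun e => by simpa [e] using h.root

theorem phi_eq_zero_iff (a : Fin 4) : phi ω a = 0 ↔ a = 0 := by
  fin_cases a <;> simp [phi, h.ne_zero]

theorem phi_injective : Function.Injective (phi ω) := by
  intro a b hab
  have : phi ω (addK a b) = 0 := by
    rw [h.phi_add, hab]; linear_combination (phi ω b) * h.two_eq_zero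
  rw [h.phi_eq_zero_iff] at this
  exact (show ∀ a b : Fin 4, addK a b = 0 → a = b by decide +kernel) a b this

theorem phi_surjective : Function.Surjective (phi ω) := by
  have := h.finite
  exact ((Nat.bijective_iff_injective_and_card _).2 ⟨h.phi_injective, by simp [h.card]⟩).2

theorem phi_wordK (a : Fin 3 → Fin 4) :
    (fun i => phi ω (wordK a i)) = ∑ k, phi ω (a k) • fun i => phi ω (genK k i) := by
  funext i
  simp [wordK, h.phi_add, h.phi_mul, Fin.sum_univ_three, Finset.sum_apply]

omit h in
theorem gens_eq :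
    (fun i => phi ω (genK 0 i)) = ![ω, ω ^ 2, ω ^ 2, ω, ω ^ 2, ω] ∧
    (fun i => phi ω (genK 1 i)) = ![ω ^ 2, ω, ω, ω ^ 2, ω ^ 2, ω] ∧
    (fun i => phi ω (genK 2 i)) = ![ω ^ 2, ω, ω ^ 2, ω, ω, ω ^ 2] := by
  refine ⟨?_, ?_, ?_⟩ <;> funext i <;> fin_cases i <;> rfl

omit h in
theorem gen_mem (k : Fin 3) : (fun i => phi ω (genK k i)) ∈ hexacode F ω := by
  obtain ⟨e0, e1, e2⟩ := gens_eq (F := F) (ω := ω)
  refine Submodule.subset_span ?_
  fin_cases k
  · exact Or.inl e0
  · exact Or.inr (Or.inl e1)
  · exact Or.inr (Or.inr e2)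

theorem mem_iff (x : Fin 6 → F) :
    x ∈ hexacode F ω ↔ ∃ a : Fin 3 → Fin 4, x = fun i => phi ω (wordK a i) := by
  constructor
  · intro hx
    rw [hexacode, Submodule.mem_span_triple] at hx
    obtain ⟨a, b, c, rfl⟩ := hx
    obtain ⟨a', rfl⟩ := h.phi_surjective a
    obtain ⟨b', rfl⟩ := h.phi_surjective b
    obtain ⟨c', rfl⟩ := h.phi_surjective c
    obtain ⟨e0, e1, e2⟩ := gens_eq (F := F) (ω := ω)
    refine ⟨![a', b', c'], ?_⟩
    rw [h.phi_wordK, Fin.sum_univ_three, e0, e1, e2]
    rfl
  · rintro ⟨a, rfl⟩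
    rw [h.phi_wordK]
    exact Submodule.sum_mem _ fun k _ => Submodule.smul_mem _ _ (gen_mem k)

theorem wordF_injective : Function.Injective fun (a : Fin 3 → Fin 4) i => phi ω (wordK a i) := by
  intro a b hab
  rw [← wordK_injective a, ← wordK_injective b]
  exact congrArg coeffK (funext fun i => h.phi_injective (congrFun hab i))

theorem natCard_code : Nat.card ↥(hexacode F ω) = 64 := by
  have he : Function.Bijective fun a : Fin 3 → Fin 4 =>
      (⟨fun i => phi ω (wordK a i), (h.mem_iff _).2 ⟨a, rfl⟩⟩ : ↥(hexacode F ω)) :=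
    ⟨fun a b hab => h.wordF_injective (congrArg Subtype.val hab),
     fun x => by
      obtain ⟨a, ha⟩ := (h.mem_iff _).1 x.2
      exact ⟨a, Subtype.ext ha.symm⟩⟩
  rw [← Nat.card_eq_of_bijective _ he, Nat.card_eq_fintype_card]
  simp

theorem weight_eq [DecidableEq F] (v : Fin 6 → Fin 4) :
    (Finset.univ.filter fun i => phi ω (v i) ≠ 0).card = wtK v := by
  simp only [wtK, ne_eq, h.phi_eq_zero_iff]

theorem ncard_weight [DecidableEq F] (n : ℕ) :
    {x : Fin 6 → F | x ∈ hexacode F ω ∧ (Finset.univ.filter fun i => x i ≠ 0).card = n}.ncard =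
      (Finset.univ.filter fun a : Fin 3 → Fin 4 => wtK (wordK a) = n).card := by
  have : {x : Fin 6 → F | x ∈ hexacode F ω ∧ (Finset.univ.filter fun i => x i ≠ 0).card = n} =
      (fun (a : Fin 3 → Fin 4) i => phi ω (wordK a i)) ''
        ↑(Finset.univ.filter fun a : Fin 3 → Fin 4 => wtK (wordK a) = n) := by
    ext x
    constructor
    · rintro ⟨hx, hn⟩
      obtain ⟨a, rfl⟩ := (h.mem_iff _).1 hx
      exact ⟨a, by simpa [← h.weight_eq] using hn, rfl⟩
    · rintro ⟨a, ha, rfl⟩
      refine ⟨(h.mem_iff _).2 ⟨a, rfl⟩, ?_⟩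
      rw [h.weight_eq]
      simpa using ha
  rw [this, Set.ncard_image_of_injective _ h.wordF_injective, Set.ncard_coe_finset]

theorem weights [DecidableEq F] {x : Fin 6 → F} (hx : x ∈ hexacode F ω) (h0 : x ≠ 0) :
    (Finset.univ.filter fun i => x i ≠ 0).card = 4 ∨
      (Finset.univ.filter fun i => x i ≠ 0).card = 6 := by
  obtain ⟨a, rfl⟩ := (h.mem_iff _).1 hx
  rw [h.weight_eq]
  refine (wordK_weights a).resolve_left ?_
  rintro rfl
  refine h0 (funext fun i => (h.phi_eq_zero_iff _).2 ?_)
  exact (show ∀ i, wordK 0 i = 0 by decide +kernel) i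

theorem memK_iff (v : Fin 6 → Fin 4) :
    (fun i => phi ω (v i)) ∈ hexacode F ω ↔ memK v = true := by
  rw [h.mem_iff]
  constructor
  · rintro ⟨a, ha⟩
    have : v = wordK a := funext fun i => h.phi_injective (congrFun ha i)
    subst this
    simp [memK, wordK_injective]
  · intro hv
    refine ⟨coeffK v, funext fun i => ?_⟩
    simp only [memK, List.all_eq_true, beq_iff_eq] at hv
    rw [hv i (List.mem_finRange i)]

theorem preserves_iff (σ : Equiv.Perm (Fin 6)) (c : Fin 6 → Fˣ) (c' : Fin 6 → Fin 4)
    (hc : ∀ i, (c i : F) = phi ω (c' i)) :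
    Preserves (hexacode F ω) σ c ↔
      ((List.finRange 3).all fun k => memK (imgK σ.symm c' (genK k))) = true := by
  have key : ∀ v : Fin 6 → Fin 4, monomialMap σ c (fun i => phi ω (v i)) =
      fun i => phi ω (imgK σ.symm c' v i) := by
    intro v; funext i
    simp [map_apply, imgK, h.phi_mul, hc]
  simp only [List.all_eq_true, List.mem_finRange, true_implies]
  constructor
  · intro hp k
    rw [← h.memK_iff, ← key]
    exact hp _ (gen_mem k)
  · intro hk x hx
    obtain ⟨a, rfl⟩ := (h.mem_iff _).1 hx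
    rw [h.phi_wordK, map_sum_smul]
    refine Submodule.sum_mem _ fun k _ => Submodule.smul_mem _ _ ?_
    rw [key, h.memK_iff]
    exact hk k

theorem natCard_units : Nat.card Fˣ = 3 := by
  have := h.finite
  let _ := Fintype.ofFinite F
  rw [Nat.card_units, h.card]

omit h in
theorem mem_cands (c : Fin 6 → Fin 4) (h0 : c 0 = 1) (hne : ∀ i, c i ≠ 0) : c ∈ cands := by
  have hu : ∀ a : Fin 4, a ≠ 0 → a ∈ units := by decide +kernel
  simp only [cands, List.mem_flatMap, List.mem_map]
  refine ⟨c 1, hu _ (hne _), c 2, hu _ (hne _), c 3, hu _ (hne _), c 4, hu _ (hne _), c 5,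
    hu _ (hne _), ?_⟩
  funext i
  fin_cases i <;> first | exact h0.symm | rfl

theorem exists_model (c : Fin 6 → Fˣ) (h0 : c 0 = 1) :
    ∃ c' ∈ cands, ∀ i, (c i : F) = phi ω (c' i) := by
  choose c' hc' using fun i => h.phi_surjective (c i : F)
  refine ⟨c', mem_cands c' ?_ ?_, fun i => (hc' i).symm⟩
  · exact h.phi_injective (by rw [hc', h0]; rfl)
  · intro i hi
    exact (c i).ne_zero (by rw [← hc', hi]; rfl)

theorem diag (c : Fin 6 → Fˣ) (hc : Preserves (hexacode F ω) 1 c) (i j : Fin 6) : c i = c j := by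
  set u : Fin 6 → Fˣ := fun k => (c 0)⁻¹ * c k with hu
  have hup : Preserves (hexacode F ω) 1 u := by
    have := (preserves_const (C := hexacode F ω) (c 0)⁻¹).mul hc
    rw [one_mul] at this
    exact this
  obtain ⟨u', hmem, hu'⟩ := h.exists_model u (by simp [hu])
  have hd := List.all_eq_true.1 diag_scalar u' hmem
  have hh := (h.preserves_iff 1 u u' hu').1 hup
  have hid : ((1 : Equiv.Perm (Fin 6)).symm : Fin 6 → Fin 6) = id := rfl
  rw [hid] at hh
  simp only [hh, Bool.not_true, Bool.false_or, List.all_eq_true, List.mem_finRange, true_implies,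
    beq_iff_eq] at hd
  have : ∀ k, u k = 1 := fun k => Units.ext (by rw [hu', hd k]; rfl)
  have h1 := this i
  have h2 := this j
  simp only [hu, inv_mul_eq_one] at h1 h2
  rw [← h1, ← h2]

theorem mem_permParts_of_liftK (σ : Equiv.Perm (Fin 6)) (hl : liftK σ.symm = true) :
    haveI := h.finite; σ ∈ permParts (hexacode F ω) := by
  haveI := h.finite
  simp only [liftK, List.any_eq_true, Bool.and_eq_true] at hl
  obtain ⟨c', -, hne, hk⟩ := hl
  simp only [List.all_eq_true, List.mem_finRange, true_implies, bne_iff_ne] at hne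
  refine ⟨fun i => Units.mk0 (phi ω (c' i)) (fun e => hne i ((h.phi_eq_zero_iff _).1 e)), ?_⟩
  exact (h.preserves_iff σ _ c' (fun i => rfl)).2 hk

theorem swap_notMem :
    haveI := h.finite; Equiv.swap (0 : Fin 6) 1 ∉ permParts (hexacode F ω) := by
  haveI := h.finite
  rintro ⟨c, hc⟩
  set u : Fin 6 → Fˣ := fun k => (c 0)⁻¹ * c k with hu
  have hup : Preserves (hexacode F ω) (Equiv.swap 0 1) u := by
    have := (preserves_const (C := hexacode F ω) (c 0)⁻¹).mul hc
    rw [one_mul] at this
    exact this
  obtain ⟨u', hmem, hu'⟩ := h.exists_model u (by simp [hu])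
  have hk := (h.preserves_iff _ u u' hu').1 hup
  have := no_transposition
  simp only [liftK, List.any_eq_false, Bool.and_eq_true, not_and] at this
  refine absurd ?_ (this u' hmem ?_)
  · simpa [Equiv.symm_swap] using hk
  · simp only [List.all_eq_true, List.mem_finRange, true_implies, bne_iff_ne]
    intro i hi
    exact (u i).ne_zero (by rw [hu', hi]; rfl)

theorem permParts_eq :
    haveI := h.finite; permParts (hexacode F ω) = alternatingGroup (Fin 6) := by
  haveI := h.finite
  set P := permParts (hexacode F ω) with hP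
  have hpair : ∀ x y : Fin 6, x ≠ y → Equiv.swap x y * Equiv.swap 0 1 ∈ P ∧
      Equiv.swap 0 1 * Equiv.swap x y ∈ P := fun x y hxy =>
    ⟨h.mem_permParts_of_liftK _ (even_products x y hxy).1,
     h.mem_permParts_of_liftK _ (even_products x y hxy).2⟩
  have main : ∀ σ : Equiv.Perm (Fin 6), (Equiv.Perm.sign σ = 1 → σ ∈ P) ∧
      (Equiv.Perm.sign σ = -1 → Equiv.swap 0 1 * σ ∈ P) := by
    intro σ
    induction σ using Equiv.Perm.swap_induction_on with
    | one => exact ⟨fun _ => P.one_mem, fun h => absurd h (by decide)⟩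
    | swap_mul f x y hxy ih =>
      rw [map_mul, Equiv.Perm.sign_swap hxy]
      constructor
      · intro hs
        have hf : Equiv.Perm.sign f = -1 := by
          rcases Int.units_eq_one_or (Equiv.Perm.sign f) with e | e
          · rw [e] at hs; exact absurd hs (by decide)
          · exact e
        have := P.mul_mem (hpair x y hxy).1 (ih.2 hf)
        rwa [mul_assoc, Equiv.swap_mul_self_mul] at this
      · intro hs
        have hf : Equiv.Perm.sign f = 1 := by
          rcases Int.units_eq_one_or (Equiv.Perm.sign f) with e | e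
          · exact e
          · rw [e] at hs; exact absurd hs (by decide)
        rw [← mul_assoc]
        exact P.mul_mem (hpair x y hxy).2 (ih.1 hf)
  refine le_antisymm ?_ fun σ hσ => (main σ).1 hσ
  intro σ hσ
  rcases Int.units_eq_one_or (Equiv.Perm.sign σ) with e | e
  · exact e
  · exfalso
    refine h.swap_notMem ?_
    have := P.mul_mem ((main σ).2 e) (P.inv_mem hσ)
    rwa [mul_inv_cancel_right] at this

theorem natCard_automorphisms :
    Nat.card {f : Equiv.Perm (Fin 6) × (Fin 6 → Fˣ) // Preserves (hexacode F ω) f.1 f.2} = 1080 := by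
  haveI := h.finite
  rw [CfsgLib.Monomial.natCard_automorphisms h.diag, h.permParts_eq, h.natCard_units,
    nat_card_alternatingGroup, Nat.card_eq_fintype_card, Fintype.card_fin]
  rfl

end IsF4

end CfsgLib.Hexacode
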