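import Mathlib

/-!
# A table model of the hexacode over the field with four elements
-/

set_option autoImplicit false
set_option Elab.async false

namespace CfsgLib.Hexacode

/-- Addition of the four elements 0, 1, w, w^2. -/
def addK (a b : Fin 4) : Fin 4 :=
  (![![0, 1, 2, 3], ![1, 0, 3, 2], ![2, 3, 0, 1], ![3, 2, 1, 0]] : Fin 4 → Fin 4 → Fin 4) a b

/-- Multiplication of the four elements 0, 1, w, w^2. -/
def mulK (a b : Fin 4) : Fin 4 :=
  (![![0, 0, 0, 0], ![0, 1, 2, 3], ![0, 2, 3, 1], ![0, 3, 1, 2]] : Fin 4 → Fin 4 → Fin 4) a b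

/-- The three spanning words. -/
def genK : Fin 3 → Fin 6 → Fin 4 :=
  ![![2, 3, 3, 2, 3, 2], ![3, 2, 2, 3, 3, 2], ![3, 2, 3, 2, 2, 3]]

/-- A combination of the spanning words. -/
def wordK (a : Fin 3 → Fin 4) (i : Fin 6) : Fin 4 :=
  addK (addK (mulK (a 0) (genK 0 i)) (mulK (a 1) (genK 1 i))) (mulK (a 2) (genK 2 i))

/-- Coefficients of a word from three positions. -/
def coeffK (v : Fin 6 → Fin 4) : Fin 3 → Fin 4 := fun j =>
  addK (addK (mulK (v 0) ((![2, 3, 0] : Fin 3 → Fin 4) j)) (mulK (v 1) ((![3, 3, 1] : Fin 3 → Fin 4) j)))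
    (mulK (v 2) ((![0, 1, 1] : Fin 3 → Fin 4) j))

/-- Membership test. -/
def memK (v : Fin 6 → Fin 4) : Bool := (List.finRange 6).all fun i => wordK (coeffK v) i == v i

/-- Weight. -/
def wtK (v : Fin 6 → Fin 4) : ℕ := (Finset.univ.filter fun i => v i ≠ 0).card

/-- The monomial map on the table model, nonzero scalars being 1, 2, 3. -/
def imgK (p : Fin 6 → Fin 6) (c : Fin 6 → Fin 4) (v : Fin 6 → Fin 4) : Fin 6 → Fin 4 :=
  fun i => mulK (c i) (v (p i))

/-- The nonzero scalars as a list. -/
def units : List (Fin 4) := [1, 2, 3]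

/-- Scalar vectors starting with one. -/
def cands : List (Fin 6 → Fin 4) :=
  units.flatMap fun a => units.flatMap fun b => units.flatMap fun c => units.flatMap fun d =>
    units.map fun e => ![1, a, b, c, d, e]

/-- Some candidate scaling makes the permutation preserve the code. -/
def liftK (p : Fin 6 → Fin 6) : Bool :=
  cands.any fun c => ((List.finRange 6).all fun i => c i != 0) &&
    (List.finRange 3).all fun k => memK (imgK p c (genK k))

theorem wordK_injective : ∀ a : Fin 3 → Fin 4, coeffK (wordK a) = a := by decide +kernel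

theorem wordK_weights : ∀ a : Fin 3 → Fin 4, a = 0 ∨ wtK (wordK a) = 4 ∨ wtK (wordK a) = 6 := by
  decide +kernel

theorem card_weight_four :
    (Finset.univ.filter fun a : Fin 3 → Fin 4 => wtK (wordK a) = 4).card = 45 := by decide +kernel

theorem card_weight_six :
    (Finset.univ.filter fun a : Fin 3 → Fin 4 => wtK (wordK a) = 6).card = 18 := by decide +kernel

theorem diag_scalar :
    (cands.all fun c => (!(List.finRange 3).all fun k => memK (imgK id c (genK k))) ||
      (List.finRange 6).all fun i => c i == 1) = true := by decide +kernel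

theorem no_transposition : liftK (Equiv.swap (0 : Fin 6) 1) = false := by decide +kernel

/-- The test on the two products with a fixed first point. -/
def pairsOK (x : Fin 6) : Bool :=
  (List.finRange 6).all fun y => x == y ||
    (liftK ((Equiv.swap x y * Equiv.swap 0 1 : Equiv.Perm (Fin 6)).symm) &&
      liftK ((Equiv.swap 0 1 * Equiv.swap x y : Equiv.Perm (Fin 6)).symm))

theorem pairsOK_0 : pairsOK 0 = true := by decide +kernel

theorem pairsOK_1 : pairsOK 1 = true := by decide +kernel

theorem pairsOK_2 : pairsOK 2 = true := by decide +kernel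

theorem pairsOK_3 : pairsOK 3 = true := by decide +kernel

theorem pairsOK_4 : pairsOK 4 = true := by decide +kernel

theorem pairsOK_5 : pairsOK 5 = true := by decide +kernel

theorem even_products : ∀ x y : Fin 6, x ≠ y →
    liftK ((Equiv.swap x y * Equiv.swap 0 1 : Equiv.Perm (Fin 6)).symm) = true ∧
    liftK ((Equiv.swap 0 1 * Equiv.swap x y : Equiv.Perm (Fin 6)).symm) = true := by
  intro x y hxy
  have h : pairsOK x = true := by
    fin_cases x
    exacts [pairsOK_0, pairsOK_1, pairsOK_2, pairsOK_3, pairsOK_4, pairsOK_5]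
  have h2 := List.all_eq_true.1 h y (List.mem_finRange y)
  simpa [beq_eq_false_iff_ne.2 hxy] using h2

end CfsgLib.Hexacode
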